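import Cfsg.Agent.H55.ClassSq.Chain
import Cfsg.Agent.H52.DataF4
import Cfsg.Agent.H52.DataE6
import Cfsg.Agent.H52.DataE7
import Cfsg.Agent.H52.DataE8

/-!
The type A chains used for class squares in F4, E6, E7, E8 and the mirror words `w₀ w_J`.
-/

set_option autoImplicit false
set_option maxRecDepth 100000

namespace H55.ClassSq

open Cfsg.Lie

/-- The permutation of roots of a word in fundamental reflections (the last letter acts first). -/
def wordAct (D : ChevalleyDatum) (L : List ℕ) (s : ℕ) : ℕ :=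
  L.foldr D.reflectRoot s

/-- What the word `L = w₀ w_J` does: it permutes the fundamental roots of `J`, and sends every other
fundamental root to a negative root whose coefficients outside `J` are those of `-p_{k'}`. -/
structure MirrorOk (D : ChevalleyDatum) (T : H52.Tables) (J L : List ℕ) : Prop where
  lt : ∀ i ∈ L, i < D.rank
  inner : ∀ j ∈ J, wordAct D L (D.simple j) ∈ J.map D.simple
  outer : ∀ k ∈ List.range D.rank, k ∉ J → D.IsNegRoot (wordAct D L (D.simple k)) ∧
    ∃ k' ∈ List.range D.rank, k' ∉ J ∧ ∀ m ∈ List.range D.rank, m ∉ J →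
      T.co (wordAct D L (D.simple k)) m = if m = k' then -1 else 0

/-- The chain of type A2 in F4. -/
def chainF4 : ChainData where
  n := 3
  J := [2, 3]
  R := ![![0, 25, 26], ![22, 0, 24], ![21, 23, 0]]
  e := ![![1, 1, (-1)], ![1, 1, 1], ![(-1), 1, 1]]

/-- A reduced word of `w₀ w_J` in type F4. -/
def mirrorWordF4 : List ℕ :=
  [1, 2, 0, 1, 2, 3, 2, 1, 2, 0, 1, 2, 3, 1, 2, 0, 1, 2, 0, 1, 0]

theorem chainF4_ok : chainF4.Ok chevF4 H52.tablesF4 where
  three := by decide +kernel
  len := by decide +kernel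
  lt := by decide +kernel
  sgn := by decide +kernel
  comm := by decide +kernel
  chev := by decide +kernel
  succ := by decide +kernel
  neg := by decide +kernel
  pos := by decide +kernel
  inj := by decide +kernel
  supp := by decide +kernel

theorem mirrorF4_ok : MirrorOk chevF4 H52.tablesF4 chainF4.J mirrorWordF4 := by
  refine ⟨?_, ?_, ?_⟩ <;> decide +kernel

/-- The chain of type A3 in E6. -/
def chainE6 : ChainData where
  n := 4
  J := [2, 3, 4]
  R := ![![0, 42, 43, 44], ![29, 0, 39, 40], ![28, 32, 0, 37], ![27, 31, 34, 0]]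
  e := ![![1, 1, (-1), 1], ![1, 1, 1, (-1)], ![(-1), 1, 1, 1], ![1, (-1), 1, 1]]

/-- A reduced word of `w₀ w_J` in type E6. -/
def mirrorWordE6 : List ℕ :=
  [0, 2, 3, 4, 5, 1, 3, 4, 2, 3, 0, 2, 1, 3, 4, 5, 4, 3, 0, 2, 1, 3, 4, 0, 2, 1, 3, 2, 1, 0]

theorem chainE6_ok : chainE6.Ok chevE6 H52.tablesE6 where
  three := by decide +kernel
  len := by decide +kernel
  lt := by decide +kernel
  sgn := by decide +kernel
  comm := by decide +kernel
  chev := by decide +kernel
  succ := by decide +kernel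
  neg := by decide +kernel
  pos := by decide +kernel
  inj := by decide +kernel
  supp := by decide +kernel

theorem mirrorE6_ok : MirrorOk chevE6 H52.tablesE6 chainE6.J mirrorWordE6 := by
  refine ⟨?_, ?_, ?_⟩ <;> decide +kernel

/-- The chain of type A4 in E7. -/
def chainE7 : ChainData where
  n := 5
  J := [2, 3, 4, 5]
  R := ![![0, 73, 74, 75, 76], ![52, 0, 69, 70, 71], ![51, 56, 0, 66, 67], ![50, 55, 59, 0, 64], ![49, 54, 58, 61, 0]]
  e := ![![1, 1, (-1), 1, (-1)], ![1, 1, 1, (-1), 1], ![(-1), 1, 1, 1, (-1)], ![1, (-1), 1, 1, 1], ![(-1), 1, (-1), 1, 1]]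

/-- A reduced word of `w₀ w_J` in type E7. -/
def mirrorWordE7 : List ℕ :=
  [6, 5, 4, 3, 2, 1, 3, 4, 5, 6, 0, 2, 3, 4, 5, 1, 3, 4, 2, 3, 0, 2, 1, 3, 4, 5, 6, 5, 1, 3, 4, 2, 3, 0, 2, 1, 3, 4, 5, 4, 3, 0, 2, 1, 3, 4, 0, 2, 1, 3, 2, 1, 0]

theorem chainE7_ok : chainE7.Ok chevE7 H52.tablesE7 where
  three := by decide +kernel
  len := by decide +kernel
  lt := by decide +kernel
  sgn := by decide +kernel
  comm := by decide +kernel
  chev := by decide +kernel
  succ := by decide +kernel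
  neg := by decide +kernel
  pos := by decide +kernel
  inj := by decide +kernel
  supp := by decide +kernel

theorem mirrorE7_ok : MirrorOk chevE7 H52.tablesE7 chainE7.J mirrorWordE7 := by
  refine ⟨?_, ?_, ?_⟩ <;> decide +kernel

/-- The chain of type A5 in E8. -/
def chainE8 : ChainData where
  n := 6
  J := [2, 3, 4, 5, 6]
  R := ![![0, 135, 136, 137, 138, 139], ![104, 0, 130, 131, 132, 133], ![103, 109, 0, 126, 127, 128], ![102, 108, 113, 0, 123, 124], ![101, 107, 112, 116, 0, 121], ![100, 106, 111, 115, 118, 0]]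
  e := ![![1, 1, (-1), 1, (-1), 1], ![1, 1, 1, (-1), 1, (-1)], ![(-1), 1, 1, 1, (-1), 1], ![1, (-1), 1, 1, 1, (-1)], ![(-1), 1, (-1), 1, 1, 1], ![1, (-1), 1, (-1), 1, 1]]

/-- A reduced word of `w₀ w_J` in type E8. -/
def mirrorWordE8 : List ℕ :=
  [7, 6, 5, 4, 3, 2, 1, 3, 4, 5, 6, 0, 2, 3, 4, 5, 1, 3, 4, 2, 3, 0, 2, 1, 3, 4, 5, 6, 7, 6, 5, 4, 3, 2, 1, 3, 4, 5, 6, 0, 2, 3, 4, 5, 1, 3, 4, 2, 3, 0, 2, 1, 3, 4, 5, 6, 7, 1, 3, 4, 5, 6, 0, 2, 3, 4, 5, 1, 3, 4, 2, 3, 0, 2, 1, 3, 4, 5, 6, 5, 1, 3, 4, 2, 3, 0, 2, 1, 3, 4, 5, 4, 3, 0, 2, 1, 3, 4, 0, 2, 1, 3, 2, 1, 0]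

theorem chainE8_ok : chainE8.Ok chevE8 H52.tablesE8 where
  three := by decide +kernel
  len := by decide +kernel
  lt := by decide +kernel
  sgn := by decide +kernel
  comm := by decide +kernel
  chev := by decide +kernel
  succ := by decide +kernel
  neg := by decide +kernel
  pos := by decide +kernel
  inj := by decide +kernel
  supp := by decide +kernel

theorem mirrorE8_ok : MirrorOk chevE8 H52.tablesE8 chainE8.J mirrorWordE8 := by
  refine ⟨?_, ?_, ?_⟩ <;> decide +kernel

/-- All four chains, each with a homomorphism from `SL`. -/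
theorem exists_hom_F4 (F : Type*) [Field F] [Finite F] :
    ∃ φ : Matrix.SpecialLinearGroup (Fin 3) F →* chevF4.group F,
      ∀ (i j : Fin 3) (h : i ≠ j) (t : F),
        (φ (Matrix.SpecialLinearGroup.transvection h t) : GL chevF4.Idx F) =
          H52.rt chevF4 (chainF4.R i j) ((chainF4.e i j : F) * t) :=
  chainF4_ok.exists_hom H52.checkedF4

/-- The chain homomorphism in type E6. -/
theorem exists_hom_E6 (F : Type*) [Field F] [Finite F] :
    ∃ φ : Matrix.SpecialLinearGroup (Fin 4) F →* chevE6.group F,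
      ∀ (i j : Fin 4) (h : i ≠ j) (t : F),
        (φ (Matrix.SpecialLinearGroup.transvection h t) : GL chevE6.Idx F) =
          H52.rt chevE6 (chainE6.R i j) ((chainE6.e i j : F) * t) :=
  chainE6_ok.exists_hom H52.checkedE6

/-- The chain homomorphism in type E7. -/
theorem exists_hom_E7 (F : Type*) [Field F] [Finite F] :
    ∃ φ : Matrix.SpecialLinearGroup (Fin 5) F →* chevE7.group F,
      ∀ (i j : Fin 5) (h : i ≠ j) (t : F),
        (φ (Matrix.SpecialLinearGroup.transvection h t) : GL chevE7.Idx F) =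
          H52.rt chevE7 (chainE7.R i j) ((chainE7.e i j : F) * t) :=
  chainE7_ok.exists_hom H52.checkedE7

/-- The chain homomorphism in type E8. -/
theorem exists_hom_E8 (F : Type*) [Field F] [Finite F] :
    ∃ φ : Matrix.SpecialLinearGroup (Fin 6) F →* chevE8.group F,
      ∀ (i j : Fin 6) (h : i ≠ j) (t : F),
        (φ (Matrix.SpecialLinearGroup.transvection h t) : GL chevE8.Idx F) =
          H52.rt chevE8 (chainE8.R i j) ((chainE8.e i j : F) * t) :=
  chainE8_ok.exists_hom H52.checkedE8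

end H55.ClassSq
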