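import Cfsg.Agent.H52.GroupGen
import Cfsg.Agent.H40.StPresentation

/-!
Homomorphisms `SL_r(F) → D.group F` from a type A chain of roots of a checked datum.
-/

set_option autoImplicit false

namespace H55.ClassSq

open Cfsg.Lie

/-- Root table and signs of a type A subsystem on the fundamental roots listed in `J`. -/
structure ChainData where
  n : ℕ
  J : List ℕ
  R : Fin n → Fin n → ℕ
  e : Fin n → Fin n → ℤ

namespace ChainData

/-- Everything that is read off the tables for a chain. -/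
structure Ok (D : ChevalleyDatum) (T : H52.Tables) (C : ChainData) : Prop where
  three : 3 ≤ C.n
  len : C.J.length + 1 = C.n
  lt : ∀ i j, i ≠ j → C.R i j < D.nroots
  sgn : ∀ i j, i ≠ j → C.e i j = 1 ∨ C.e i j = -1
  comm : ∀ i j k l, i ≠ j → k ≠ l → i ≠ l → j ≠ k → (i, j) ≠ (k, l) →
    C.R k l ≠ C.R i j ∧ C.R k l ≠ D.neg (C.R i j) ∧ D.commTerms (C.R i j) (C.R k l) = []
  chev : ∀ i j l, i ≠ j → j ≠ l → i ≠ l →
    C.R i j ≠ C.R j l ∧ C.R i j ≠ D.neg (C.R j l) ∧
      D.commTerms (C.R j l) (C.R i j) = [(C.R i l, -(C.e i l * C.e i j * C.e j l), 1, 1)]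
  succ : ∀ i j : Fin C.n, i.val + 1 = j.val →
    C.R i j = D.simple (C.J.getD i.val 0) ∧ C.R j i = D.neg (C.R i j) ∧ C.e i j = 1 ∧ C.e j i = 1
  neg : ∀ i j, i ≠ j → C.R j i = D.neg (C.R i j)
  pos : ∀ i j, i ≠ j → (D.IsPosRoot (C.R i j) ↔ i < j)
  inj : ∀ i j k l, i ≠ j → k ≠ l → C.R i j = C.R k l → i = k ∧ j = l
  supp : ∀ r < D.nroots, (∀ m < D.rank, m ∉ C.J → T.co r m = 0) ↔ ∃ i j, i ≠ j ∧ C.R i j = r

variable {D : ChevalleyDatum} {T : H52.Tables} {C : ChainData} {F : Type*} [Field F]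

/-- The root elements of the chain. -/
noncomputable def elem (D : ChevalleyDatum) (C : ChainData) (i j : Fin C.n) (t : F) :
    GL D.Idx F :=
  H52.rt D (C.R i j) ((C.e i j : F) * t)

theorem Ok.sgn_sq (hK : Ok D T C) {i j : Fin C.n} (h : i ≠ j) : C.e i j * C.e i j = 1 := by
  rcases hK.sgn i j h with h | h <;> simp [h]

/-- The root elements of the chain satisfy the Steinberg relations. -/
theorem Ok.strel (hC : H52.Checked D T) (hK : Ok D T C) :
    H40.StRel (elem (F := F) D C) := by
  have hcomm : ∀ (i j k l : Fin C.n), i ≠ j → k ≠ l → i ≠ l → j ≠ k → ∀ a b : F,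
      Commute (H52.rt D (C.R i j) a) (H52.rt D (C.R k l) b) := by
    intro i j k l hij hkl hil hjk a b
    by_cases h : (i, j) = (k, l)
    · obtain ⟨rfl, rfl⟩ := Prod.mk.inj h
      show _ = _
      rw [hC.rt_mul, hC.rt_mul, add_comm]
    · obtain ⟨h1, h2, h3⟩ := hK.comm i j k l hij hkl hil hjk h
      have e := hC.comm_rt (F := F) (hK.lt i j hij) (hK.lt k l hkl) h1 h2 a b
      simp only [ChevalleyDatum.commWord, h3, List.map_nil, H52.wordRt, List.prod_nil, mul_one] at e
      exact e.symm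
  refine ⟨fun i j _ t u => ?_, fun i j k l hij hkl hil hjk t u => hcomm i j k l hij hkl hil hjk _ _,
    fun i j l hij hjl hil t u => ?_⟩
  · simp only [elem, hC.rt_mul, mul_add]
  · obtain ⟨h1, h2, h3⟩ := hK.chev i j l hij hjl hil
    have e := hC.comm_rt (F := F) (hK.lt j l hjl) (hK.lt i j hij) h1 h2
      ((C.e j l : F) * u) ((C.e i j : F) * t)
    have hw : H52.wordRt D (D.commWord F (C.R j l) (C.R i j) ((C.e j l : F) * u)
        ((C.e i j : F) * t)) = elem (F := F) D C i l (t * u) := by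
      simp only [ChevalleyDatum.commWord, h3, List.map_cons, List.map_nil, H52.wordRt,
        List.prod_cons, List.prod_nil, mul_one, elem]
      congr 1
      have s1 : (C.e i j : F) * (C.e i j : F) = 1 := by exact_mod_cast congrArg (Int.cast (R := F)) (hK.sgn_sq hij)
      have s2 : (C.e j l : F) * (C.e j l : F) = 1 := by exact_mod_cast congrArg (Int.cast (R := F)) (hK.sgn_sq hjl)
      push_cast
      linear_combination (C.e i l : F) * t * u * ((C.e j l : F) * (C.e j l : F)) * s1 +
        (C.e i l : F) * t * u * s2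
    rw [hw] at e
    simp only [elem] at e ⊢
    set a := H52.rt D (C.R i j) ((C.e i j : F) * t)
    set b := H52.rt D (C.R j l) ((C.e j l : F) * u)
    set c := H52.rt D (C.R i l) ((C.e i l : F) * (t * u))
    have ca : Commute c a := hcomm i l i j hil hij hij (Ne.symm hil) _ _
    have cb : Commute c b := hcomm i l j l hil hjl hil hjl.symm _ _
    calc a * b * a⁻¹ * b⁻¹ = b * a * c * a⁻¹ * b⁻¹ := by rw [e]
      _ = b * (c * a) * a⁻¹ * b⁻¹ := by rw [ca.eq]; group
      _ = b * c * b⁻¹ := by group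
      _ = c := by rw [← cb.eq]; group

/-- The homomorphism from `SL_r(F)` attached to a chain. -/
theorem Ok.exists_hom [Finite F] (hC : H52.Checked D T) (hK : Ok D T C) :
    ∃ φ : Matrix.SpecialLinearGroup (Fin C.n) F →* D.group F,
      ∀ (i j : Fin C.n) (h : i ≠ j) (t : F),
        (φ (Matrix.SpecialLinearGroup.transvection h t) : GL D.Idx F) =
          H52.rt D (C.R i j) ((C.e i j : F) * t) := by
  have hx : H40.StRel (fun (i j : Fin C.n) (t : F) =>
      (⟨elem D C i j t, hC.rt_mem_group _ _⟩ : D.group F)) := by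
    refine ⟨fun i j h t u => ?_, fun i j k l h h' h1 h2 t u => ?_, fun i j l h h' h1 t u => ?_⟩
    · exact Subtype.ext ((hK.strel hC).add i j h t u)
    · exact Subtype.ext ((hK.strel hC).comm i j k l h h' h1 h2 t u)
    · exact Subtype.ext ((hK.strel hC).chev i j l h h' h1 t u)
  let ψ := PresentedGroup.toGroup (f := fun p : {ij : Fin C.n × Fin C.n // ij.1 ≠ ij.2} × F =>
    (⟨elem D C p.1.1.1 p.1.1.2 p.2, hC.rt_mem_group _ _⟩ : D.group F)) (H40.lift_stRels hx)
  let E := MulEquiv.ofBijective (H40.stHom C.n F) (H40.stHom_bijective hK.three)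
  refine ⟨ψ.comp E.symm.toMonoidHom, fun i j h t => ?_⟩
  have he : E.symm (Matrix.SpecialLinearGroup.transvection h t) = H40.stGen C.n F i j t := by
    rw [MulEquiv.symm_apply_eq]
    exact (H40.stHom_gen h t).symm
  rw [MonoidHom.comp_apply, MulEquiv.coe_toMonoidHom, he, H40.stGen_of h]
  simp only [ψ, PresentedGroup.toGroup.of, elem]

end ChainData

end H55.ClassSq
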